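import Cfsg.Agent.Lib.G2SylowClasses.Involutions
import Cfsg.Agent.Lib.KondoClasses.Transfer
import Cfsg.Agent.Lib.KondoClasses.Frame
import Cfsg.Agent.Lib.ZStar.Final

/-!
The classes of involutions of a simple group with a framed Sylow 2-subgroup.
-/

set_option autoImplicit false

namespace Cfsg.Agent.Lib.G2SylowClasses.Frame

open Cfsg

universe u

variable {G : Type u} [Group G] [Finite G] {k : ℕ} (F : Frame G k)

theorem not_isolated [IsSimpleGroup G] : ¬ IsIsolatedInvolution F.z := by
  intro h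
  have hc := ZStar.zStar G F.z h
  rcases (inferInstance : (oddCore G).Normal).eq_bot_or_eq_top with hN | hN
  · have hz : F.z ∈ Subgroup.center G := by
      rw [Subgroup.mem_center_iff]
      intro g
      have h1 := hc g
      rw [hN, Subgroup.mem_bot, mul_inv_eq_one, mul_inv_eq_iff_eq_mul] at h1
      exact h1.symm
    rcases (inferInstance : (Subgroup.center G).Normal).eq_bot_or_eq_top with hC | hC
    · rw [hC, Subgroup.mem_bot] at hz
      exact F.z_ne_one hz
    · have hi : F.i ∈ Subgroup.center G := by rw [hC]; trivial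
      have h1 : F.i * F.a (1, 0) = F.a (1, 0) * F.i := (Subgroup.mem_center_iff.1 hi _).symm
      rw [F.i_a] at h1
      have h2 := F.a_inj (mul_right_cancel h1)
      have h3 : ((2 : ℕ) : ZMod (2 ^ k)) = 0 := by
        have h4 := congrArg Prod.fst h2
        simp only [Prod.fst_neg] at h4
        push_cast
        linear_combination -h4
      rw [ZMod.natCast_eq_zero_iff] at h3
      have h5 := Nat.le_of_dvd (by norm_num) h3
      have h6 : 4 ≤ 2 ^ k := le_trans (by norm_num) (Nat.pow_le_pow_right (by norm_num : 1 ≤ 2) F.two_le)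
      omega
  · exact ZStar.eq_one_of_mem_oddCore_two (x := F.z) (by rw [hN]; trivial) h.1

include F in
theorem no_index_two [IsSimpleGroup G] : ∀ H : Subgroup G, H.Normal → H.index ≠ 2 := by
  intro H hH hidx
  rcases hH.eq_bot_or_eq_top with h | h
  · rw [h, Subgroup.index_bot] at hidx
    have h1 : Nat.card F.sub ∣ Nat.card G := Subgroup.card_subgroup_dvd_card _
    rw [F.card_sub, hidx] at h1
    have h2 := Nat.le_of_dvd (by norm_num) h1
    have h3 : 4 ^ 1 ≤ 4 ^ (k + 1) := Nat.pow_le_pow_right (by norm_num) (by omega)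
    omega
  · rw [h, Subgroup.index_top] at hidx
    omega

variable (S : Sylow 2 G) (hS : F.sub = (S : Subgroup G))

include hS in
theorem sylow_le_centralizer : (S : Subgroup G) ≤ Subgroup.centralizer ({F.z} : Set G) :=
  fun x hx => Subgroup.mem_centralizer_singleton_iff.2 (F.z_comm (hS ▸ hx))

include hS in
/-- a conjugation mapping an involution to `z` and its centraliser in the Sylow subgroup into it -/
theorem exists_mapper {x : G} (h : IsConj x F.z) :
    ∃ g : G, g * x * g⁻¹ = F.z ∧ ∀ y ∈ F.sub, y * x = x * y → g * y * g⁻¹ ∈ F.sub := by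
  obtain ⟨c, hc⟩ := isConj_iff.1 h
  set R : Subgroup G := (F.sub ⊓ Subgroup.centralizer ({x} : Set G)).map (MulAut.conj c).toMonoidHom
  have hR : IsPGroup 2 R := (S.isPGroup'.to_le (by rw [← hS]; exact inf_le_left)).map _
  have hRC : R ≤ Subgroup.centralizer ({F.z} : Set G) := by
    rintro _ ⟨y, ⟨-, hy⟩, rfl⟩
    rw [Subgroup.mem_centralizer_singleton_iff]
    have hy' := Subgroup.mem_centralizer_singleton_iff.1 hy
    show c * y * c⁻¹ * F.z = F.z * (c * y * c⁻¹)
    rw [← hc, show c * y * c⁻¹ * (c * x * c⁻¹) = c * (y * x) * c⁻¹ by group, hy']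
    group
  obtain ⟨d, hd, hd'⟩ := KondoClasses.exists_conj_le S (F.sylow_le_centralizer S hS) hR hRC
  refine ⟨d⁻¹ * c, ?_, fun y hy hyx => ?_⟩
  · rw [show d⁻¹ * c * x * (d⁻¹ * c)⁻¹ = d⁻¹ * (c * x * c⁻¹) * d by group, hc]
    rw [mul_assoc, ← Subgroup.mem_centralizer_singleton_iff.1 hd, ← mul_assoc, inv_mul_cancel,
      one_mul]
  · rw [hS]
    have := hd' (c * y * c⁻¹) ⟨y, ⟨hy, Subgroup.mem_centralizer_singleton_iff.2 hyx⟩, rfl⟩
    convert this using 1
    group

include hS in
theorem not_isConj_good (hu : ¬ IsConj F.u F.z) {r : G} (hg : F.Good r) (hr : r ≠ F.z) :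
    ¬ IsConj r F.z := by
  intro h
  obtain ⟨g, hgr, hg'⟩ := F.exists_mapper S hS h
  obtain ⟨a, ha, b, hb, har, hbr, hab⟩ := hg
  obtain ⟨v, hv⟩ := F.commutator_mem (hg' a ha har) (hg' b hb hbr)
  have hz : g * F.z * g⁻¹ = F.a v := by rw [← hv, ← hab]; group
  have h2 : F.a v * F.a v = 1 := by
    rw [← hz, show g * F.z * g⁻¹ * (g * F.z * g⁻¹) = g * (F.z * F.z) * g⁻¹ by group, F.z_sq]
    group
  have h1 : F.a v ≠ 1 := fun e => F.z_ne_one (conj_eq_one_iff.1 (hz.trans e))
  have hconj : IsConj F.z (F.a v) := isConj_iff.2 ⟨g, hz⟩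
  rcases F.a_invol h2 h1 with e | e | e <;> rw [e] at hz hconj
  · exact hr (mul_left_cancel (mul_right_cancel (hgr.trans hz.symm)))
  · exact hu hconj.symm
  · exact hu (F.isConj_u.trans hconj.symm)

include hS in
theorem mixed_of_isConj_z (hu : ¬ IsConj F.u F.z) {x : G} (hx : x ∈ F.sub) (hx2 : x * x = 1)
    (hx1 : x ≠ 1) (hne : x ≠ F.z) (hz : IsConj x F.z) :
    ∃ v, x = F.el v true false ∧ F.Mixed v := by
  have key : ∀ r : G, F.Good r → (∀ w, r ≠ F.a w) → IsConj x r → False := fun r hg hr hc =>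
    F.not_isConj_good S hS hu hg (hr (half k, half k)) (hc.symm.trans hz)
  have hne' : ∀ v e f w, (e = true ∨ f = true) → F.el v e f ≠ F.a w := by
    intro v e f w h hh
    rw [← F.el_a w] at hh
    obtain ⟨-, he, hf⟩ := F.el_inj hh
    rcases h with h | h <;> simp [h] at he hf
  obtain ⟨v, e, f, rfl⟩ := hx
  cases f with
  | true =>
    exfalso
    cases e with
    | false =>
      refine key _ F.good_s (fun w => ?_) (F.s_invol hx2)
      rw [← F.el_s]; exact hne' _ _ _ _ (Or.inr rfl)
    | true =>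
      refine key _ F.good_is (fun w => ?_) (F.is_invol hx2)
      rw [← F.el_is]; exact hne' _ _ _ _ (Or.inr rfl)
  | false =>
    cases e with
    | false =>
      exfalso
      rw [el_a] at hx2 hx1 hne hz
      rcases F.a_invol hx2 hx1 with e | e | e
      · exact hne e
      · exact hu (e ▸ hz)
      · exact hu (F.isConj_u.trans (e ▸ hz))
    | true =>
      refine ⟨v, rfl, ?_⟩
      by_contra hm
      rcases F.not_mixed_isConj hm with h | h
      · refine key _ (F.el_i ▸ F.good_i 0 rfl) (fun w => ?_) h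
        rw [← F.el_i]; exact hne' _ _ _ _ (Or.inl rfl)
      · exact key _ (F.good_i _ rfl) (fun w => hne' _ _ _ _ (Or.inl rfl)) h

include hS in
theorem isConj_u_z [IsSimpleGroup G] : IsConj F.u F.z := by
  classical
  by_contra hu
  have hiso := F.not_isolated
  have hz2 : orderOf F.z = 2 := orderOf_eq_prime (by rw [pow_two, F.z_sq]) F.z_ne_one
  simp only [IsIsolatedInvolution, hz2, true_and, not_forall] at hiso
  obtain ⟨g, hcomm, hne⟩ := hiso
  -- move into the Sylow subgroup
  have hy2 : g * F.z * g⁻¹ * (g * F.z * g⁻¹) = 1 := by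
    rw [show g * F.z * g⁻¹ * (g * F.z * g⁻¹) = g * (F.z * F.z) * g⁻¹ by group, F.z_sq]
    group
  have hP : IsPGroup 2 (Subgroup.zpowers (g * F.z * g⁻¹)) := by
    refine IsPGroup.of_card (n := 1) ?_
    rw [Nat.card_zpowers, pow_one]
    exact orderOf_eq_prime (by rw [pow_two, hy2]) fun e => F.z_ne_one (conj_eq_one_iff.1 e)
  obtain ⟨d, hd, hd'⟩ := KondoClasses.exists_conj_le S (F.sylow_le_centralizer S hS) hP
    (by rw [Subgroup.zpowers_le, Subgroup.mem_centralizer_singleton_iff]; exact hcomm.symm)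
  obtain ⟨y, hy⟩ : ∃ y, y = d⁻¹ * (g * F.z * g⁻¹) * d := ⟨_, rfl⟩
  have hyS : y ∈ F.sub := hy ▸ hS ▸ hd' _ (Subgroup.mem_zpowers _)
  have hyz : IsConj y F.z := (isConj_iff.2 ⟨d⁻¹ * g, by rw [hy]; group⟩ : IsConj F.z y).symm
  have hy1 : y ≠ 1 := fun e => F.z_ne_one (by
    simpa [hy, mul_assoc] using congrArg (fun t => g⁻¹ * (d * t * d⁻¹) * g) e)
  have hyne : y ≠ F.z := fun e => hne (by
    rw [hy, mul_assoc, inv_mul_eq_iff_eq_mul, Subgroup.mem_centralizer_singleton_iff.1 hd] at e
    exact mul_right_cancel e)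
  obtain ⟨v, rfl, hv⟩ := F.mixed_of_isConj_z S hS hu hyS (by
    rw [hy, show d⁻¹ * (g * F.z * g⁻¹) * d * (d⁻¹ * (g * F.z * g⁻¹) * d) =
      d⁻¹ * (g * F.z * g⁻¹ * (g * F.z * g⁻¹)) * d by group, hy2]
    group) hy1 hyne hyz
  -- the extremal conjugation
  obtain ⟨c, hcy, hc⟩ := F.exists_mapper S hS hyz
  set z' := c * F.z * c⁻¹ with hz'
  set w := c * F.u * c⁻¹ with hw
  have huv : F.u * F.el v true false = F.el v true false * F.u := by
    rw [u, ← F.el_a, el_mul, el_mul]
    simp [act, half_neg F.one_le, add_comm]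
  have hwS : w ∈ F.sub := hc _ ⟨_, false, false, (F.el_a _).symm⟩ huv
  have hz'S : z' ∈ F.sub := hc _ F.z_mem (F.z_comm hyS).symm
  have hzz' : IsConj F.z z' := isConj_iff.2 ⟨c, rfl⟩
  have huw : IsConj F.u w := isConj_iff.2 ⟨c, rfl⟩
  have hz'ne : z' ≠ F.z := fun e =>
    hyne (mul_left_cancel (mul_right_cancel (hcy.trans e.symm)))
  obtain ⟨v', hv'eq, hv'⟩ := F.mixed_of_isConj_z S hS hu hz'S
    (by rw [hz', show c * F.z * c⁻¹ * (c * F.z * c⁻¹) = c * (F.z * F.z) * c⁻¹ by group, F.z_sq]; group)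
    (fun e => F.z_ne_one (conj_eq_one_iff.1 e)) hz'ne hzz'.symm
  have hmix : ∀ p, F.Mixed p → IsConj (F.el p true false) F.z := fun p hp =>
    (F.mixed_isConj hp hv').trans (hv'eq ▸ hzz'.symm)
  have hu1 : F.u ≠ 1 := fun e => half_ne F.one_le (congrArg Prod.fst (F.inj _ e))
  have hu2 : F.u * F.u = 1 := by
    rw [u, ← F.a_add]
    simp only [Prod.mk_add_mk, half_add_half F.one_le, add_zero]
    exact F.a_zero
  have hw2 : w * w = 1 := by
    rw [hw, show c * F.u * c⁻¹ * (c * F.u * c⁻¹) = c * (F.u * F.u) * c⁻¹ by group, hu2]; group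
  have hw1 : w ≠ 1 := fun e => hu1 (conj_eq_one_iff.1 e)
  have hwz' : w * z' = z' * w := by
    rw [hw, hz', show c * F.u * c⁻¹ * (c * F.z * c⁻¹) = c * (F.u * F.z) * c⁻¹ by group,
      F.z_comm (⟨_, false, false, (F.el_a _).symm⟩ : F.u ∈ F.sub)]
    group
  have hw' : IsConj F.u' (w * z') := isConj_iff.2 ⟨c, by rw [← F.u_mul_z, hw, hz']; group⟩
  obtain ⟨p, e, f, hp⟩ := hwS
  rw [hp] at hw2 hw1 hwz' huw hw'
  rw [hv'eq] at hwz' hw'
  obtain rfl := F.comm_mixed hv' hwz'
  cases e with
  | false =>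
    rw [el_a] at hw2 hw1 huw
    have hp0 := F.inj _ (by rw [F.a_add]; exact hw2 : F.a (p + p) = 1)
    rw [el_mul, Bool.false_xor, Bool.false_xor] at hw'
    refine hu (F.isConj_u.trans (hw'.trans (hmix _ ?_)))
    have h1 : par F.one_le p.1 = 0 ∧ par F.one_le p.2 = 0 := by
      constructor
      · rcases eq_half_of_add_self F.one_le (congrArg Prod.fst hp0) with h | h <;> rw [h]
        · exact map_zero _
        · exact par_half F.two_le
      · rcases eq_half_of_add_self F.one_le (congrArg Prod.snd hp0) with h | h <;> rw [h]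
        · exact map_zero _
        · exact par_half F.two_le
    simpa [Mixed, act, h1] using hv'
  | true =>
    refine hu (huw.trans (hmix p ?_))
    rw [el_mul, el_mul] at hwz'
    have h0 := (F.el_inj hwz').1
    have hpar : ∀ a b : ZMod (2 ^ k), a + -b = b + -a → par F.one_le a = par F.one_le b := by
      intro a b hab
      have h2 : (a - b) + (a - b) = 0 := by linear_combination hab
      rw [← sub_eq_zero, ← map_sub]
      rcases eq_half_of_add_self F.one_le h2 with h | h <;> rw [h]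
      · exact map_zero _
      · exact par_half F.two_le
    unfold Mixed
    rw [hpar p.1 v'.1 (congrArg Prod.fst h0), hpar p.2 v'.2 (congrArg Prod.snd h0)]
    exact hv'

include hS in
theorem isConj_z_of_mem_a [IsSimpleGroup G] {v : V k} (h : F.a v * F.a v = 1) (h1 : F.a v ≠ 1) :
    IsConj (F.a v) F.z := by
  rcases F.a_invol h h1 with e | e | e <;> rw [e]
  · exact F.isConj_u_z S hS
  · exact F.isConj_u.symm.trans (F.isConj_u_z S hS)

include hS in
theorem two_classes [IsSimpleGroup G] {x : G} (hx : orderOf x = 2) :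
    IsConj x F.z ∨ IsConj x F.s := by
  let M : Subgroup G :=
    { carrier := {y | ∃ v f, y = F.el v false f}
      one_mem' := ⟨0, false, F.el_one.symm⟩
      mul_mem' := by
        rintro _ _ ⟨v, f, rfl⟩ ⟨w, f', rfl⟩
        exact ⟨_, _, F.el_mul v w false f false f'⟩
      inv_mem' := by
        rintro _ ⟨v, f, rfl⟩
        obtain ⟨w, hw⟩ := F.el_inv_mem v false f
        exact ⟨_, _, hw⟩ }
  have hMS : M ≤ (S : Subgroup G) := by
    rintro _ ⟨v, f, rfl⟩
    exact hS ▸ F.el_mem v false f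
  have hM : (M.subgroupOf (S : Subgroup G)).index = 2 := by
    rw [Subgroup.index_eq_two_iff]
    refine ⟨⟨F.i, hS ▸ F.el_i ▸ F.el_mem 0 true false⟩, ?_⟩
    rintro ⟨b, hb⟩
    rw [← hS] at hb
    obtain ⟨v, e, f, rfl⟩ := hb
    have hmem : ∀ w e' f', F.el w e' f' ∈ M ↔ e' = false := fun w e' f' =>
      ⟨fun ⟨p, g, h⟩ => (F.el_inj h).2.1, fun h => ⟨w, f', h ▸ rfl⟩⟩
    simp only [Subgroup.mem_subgroupOf, Subgroup.coe_mul]
    rw [← F.el_i, el_mul, hmem, hmem]
    cases e <;> simp
  have hx2 : x * x = 1 := by rw [← pow_two, ← hx, pow_orderOf_eq_one]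
  obtain ⟨g, hgM, -⟩ := KondoClasses.exists_conj_extremal F.no_index_two (S : Subgroup G)
    (Nat.odd_iff.2 (Nat.two_dvd_ne_zero.1 S.not_dvd_index)) M hMS hM x hx2 ⊥ IsPGroup.of_bot
    (fun r hr => by rw [Subgroup.mem_bot.1 hr, one_mul, mul_one])
  obtain ⟨v, f, hv⟩ := hgM
  have hc : IsConj x (F.el v false f) := isConj_iff.2 ⟨g⁻¹, by rw [← hv]; group⟩
  have h2 : F.el v false f * F.el v false f = 1 := by
    rw [← hv, show g⁻¹ * x * g * (g⁻¹ * x * g) = g⁻¹ * (x * x) * g by group, hx2]; group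
  have h1 : F.el v false f ≠ 1 := fun e => by
    rw [← hv] at e
    have : x = 1 := by simpa [mul_assoc] using congrArg (fun t => g * t * g⁻¹) e
    rw [this, orderOf_one] at hx
    omega
  cases f with
  | false =>
    rw [el_a] at hc h2 h1
    exact Or.inl (hc.trans (F.isConj_z_of_mem_a S hS h2 h1))
  | true => exact Or.inr (hc.trans (F.s_invol h2))

include hS in
theorem isConj_s_z [IsSimpleGroup G] (hk : 3 ≤ k) : IsConj F.s F.z := by
  let M : Subgroup G :=
    { carrier := {y | ∃ v e, y = F.el v e false}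
      one_mem' := ⟨0, false, F.el_one.symm⟩
      mul_mem' := by
        rintro _ _ ⟨v, f, rfl⟩ ⟨w, f', rfl⟩
        exact ⟨_, _, F.el_mul v w f false f' false⟩
      inv_mem' := by
        rintro _ ⟨v, f, rfl⟩
        obtain ⟨w, hw⟩ := F.el_inv_mem v f false
        exact ⟨_, _, hw⟩ }
  have hMS : M ≤ (S : Subgroup G) := by
    rintro _ ⟨v, f, rfl⟩
    exact hS ▸ F.el_mem v f false
  have hM : (M.subgroupOf (S : Subgroup G)).index = 2 := by
    rw [Subgroup.index_eq_two_iff]
    refine ⟨⟨F.s, hS ▸ F.el_s ▸ F.el_mem 0 false true⟩, ?_⟩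
    rintro ⟨b, hb⟩
    rw [← hS] at hb
    obtain ⟨v, e, f, rfl⟩ := hb
    have hmem : ∀ w e' f', F.el w e' f' ∈ M ↔ f' = false := fun w e' f' =>
      ⟨fun ⟨p, g, h⟩ => (F.el_inj h).2.2, fun h => ⟨w, e', h ▸ rfl⟩⟩
    simp only [Subgroup.mem_subgroupOf, Subgroup.coe_mul]
    rw [← F.el_s, el_mul, hmem, hmem]
    cases f <;> simp
  set R : Subgroup G := (S : Subgroup G) ⊓ Subgroup.centralizer ({F.s} : Set G)
  obtain ⟨g, hgM, hgR⟩ := KondoClasses.exists_conj_extremal F.no_index_two (S : Subgroup G)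
    (Nat.odd_iff.2 (Nat.two_dvd_ne_zero.1 S.not_dvd_index)) M hMS hM F.s F.s_sq R
    (S.isPGroup'.to_le inf_le_left) fun r hr => Subgroup.mem_centralizer_singleton_iff.1 hr.2
  obtain ⟨v, e, hv⟩ := hgM
  have h2 : F.el v e false * F.el v e false = 1 := by
    rw [← hv, show g⁻¹ * F.s * g * (g⁻¹ * F.s * g) = g⁻¹ * (F.s * F.s) * g by group, F.s_sq]; group
  have hc : IsConj F.s (F.el v e false) := isConj_iff.2 ⟨g⁻¹, by rw [← hv]; group⟩
  cases e with
  | false =>
    have h1 : F.a v ≠ 1 := fun e => by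
      rw [← F.el_a, ← hv] at e
      have : F.s = 1 := by simpa [mul_assoc] using congrArg (fun t => g * t * g⁻¹) e
      exact F.el_ne_one (v := 0) (e := false) (f := true) (Or.inr rfl) (F.el_s.trans this)
    rw [el_a] at hc h2
    exact hc.trans (F.isConj_z_of_mem_a S hS h2 h1)
  | true =>
    exfalso
    have hr : F.a (1, 1) ∈ R := by
      refine ⟨hS ▸ ⟨_, false, false, (F.el_a _).symm⟩, Subgroup.mem_centralizer_singleton_iff.2 ?_⟩
      rw [F.s_a]
      rfl
    have hmem := hgR _ hr
    rw [← hS] at hmem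
    obtain ⟨p, e', f', hp⟩ := hmem
    have hcomm : F.el p e' f' * F.el v true false = F.el v true false * F.el p e' f' := by
      rw [← hp, ← hv, show g⁻¹ * F.a (1, 1) * g * (g⁻¹ * F.s * g) = g⁻¹ * (F.a (1, 1) * F.s) * g by
        group, Subgroup.mem_centralizer_singleton_iff.1 hr.2]
      group
    rw [el_mul, el_mul] at hcomm
    have h0 := (F.el_inj hcomm).1
    have h4 : F.a (1, 1) * F.a (1, 1) * (F.a (1, 1) * F.a (1, 1)) = 1 := by
      have : F.el p e' f' * F.el p e' f' * (F.el p e' f' * F.el p e' f') = 1 := by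
        rw [el_sq, ← F.a_add]
        have : p + act e' f' p + (p + act e' f' p) = 0 := by
          have a1 := congrArg Prod.fst h0
          have a2 := congrArg Prod.snd h0
          cases e' <;> cases f' <;> simp [act] at a1 a2 ⊢ <;> ext <;>
            simp only [Prod.fst_add, Prod.snd_add, Prod.fst_swap, Prod.snd_swap, Prod.fst_neg,
              Prod.snd_neg, Prod.fst_zero, Prod.snd_zero] <;>
            first
              | linear_combination a1 + a2
              | linear_combination -a1 - a2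
              | linear_combination a1 - a2
              | linear_combination a2 - a1
              | linear_combination 2 * a1
              | linear_combination -2 * a1
              | linear_combination 2 * a2
              | linear_combination -2 * a2
              | ring
        rw [this, F.a_zero]
      rw [← hp] at this
      simpa [mul_assoc] using congrArg (fun t => g * t * g⁻¹) this
    rw [← F.a_add, ← F.a_add] at h4
    have h5 : ((4 : ℕ) : ZMod (2 ^ k)) = 0 := by
      have h6 := congrArg Prod.fst (F.inj _ h4)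
      simp only [Prod.fst_add, Prod.fst_zero] at h6
      push_cast
      linear_combination h6
    rw [ZMod.natCast_eq_zero_iff] at h5
    have := Nat.le_of_dvd (by norm_num) h5
    have h8 : 2 ^ 3 ≤ 2 ^ k := Nat.pow_le_pow_right (by norm_num) hk
    omega

include hS in
/-- the classes of involutions -/
theorem classes [IsSimpleGroup G] :
    (∀ x y : G, orderOf x = 2 → orderOf y = 2 → IsConj x y) ∨
      (Nat.card (S : Subgroup G) = 64 ∧ ∃ x y : G, orderOf x = 2 ∧ orderOf y = 2 ∧ ¬ IsConj x y ∧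
        ∀ z : G, orderOf z = 2 → IsConj z x ∨ IsConj z y) := by
  by_cases h : IsConj F.s F.z
  · refine Or.inl fun x y hx hy => ?_
    have key : ∀ t : G, orderOf t = 2 → IsConj t F.z := fun t ht =>
      (F.two_classes S hS ht).elim id fun h' => h'.trans h
    exact (key x hx).trans (key y hy).symm
  · refine Or.inr ⟨?_, F.z, F.s, orderOf_eq_prime (by rw [pow_two, F.z_sq]) F.z_ne_one,
      orderOf_eq_prime (by rw [pow_two, F.s_sq]) ?_, fun h' => h h'.symm,
      fun t ht => F.two_classes S hS ht⟩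
    · have hk : k = 2 := by
        have := F.two_le
        by_contra hne
        exact h (F.isConj_s_z S hS (by omega))
      rw [← hS, F.card_sub, hk]
      norm_num
    · rw [← F.el_s]
      exact F.el_ne_one (Or.inr rfl)

end Cfsg.Agent.Lib.G2SylowClasses.Frame
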