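import Cfsg.Agent.Lib.G2SylowClasses.Pairs

/-!
Torus data exist over every finite field of odd order.
-/

set_option autoImplicit false

namespace Cfsg.Agent.Lib.G2SylowClasses

open Matrix Cfsg.Agent.Lib.ZornG2
open scoped QuadraticAlgebra

universe u

variable {F : Type u} [Field F] [Fintype F]

theorem exists_orderOf {M : Type*} [Group M] [Finite M] [IsCyclic M] {n : ℕ}
    (hn : n ∣ Nat.card M) : ∃ x : M, orderOf x = n := by
  obtain ⟨g, hg⟩ := IsCyclic.exists_ofOrder_eq_natCard (α := M)
  exact ⟨g ^ (orderOf g / n), orderOf_pow_orderOf_div (orderOf_pos g).ne' (hg ▸ hn)⟩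

theorem padic_one {x : ℕ} (hx : x % 4 = 2) : padicValNat 2 x = 1 := by
  obtain ⟨m, rfl⟩ : ∃ m, x = 2 * m := ⟨x / 2, by omega⟩
  rw [padicValNat.mul (by norm_num) (by omega), padicValNat.self (by norm_num),
    padicValNat.eq_zero_of_not_dvd (by omega)]

theorem exists_torus (hF : Odd (Fintype.card F)) :
    ∃ k, 2 ≤ k ∧ padicValNat 2 (Fintype.card F ^ 2 - 1) = k + 1 ∧ Nonempty (Torus F k) := by
  classical
  haveI : Fact (Nat.Prime 2) := ⟨Nat.prime_two⟩
  obtain ⟨q, hq⟩ : ∃ q, q = Fintype.card F := ⟨_, rfl⟩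
  have hq3 : 3 ≤ q := by
    have := Fintype.one_lt_card (α := F)
    rcases hF with ⟨r, hr⟩
    omega
  have hq2 : q % 2 = 1 := hq ▸ Nat.odd_iff.1 hF
  have hprod : q ^ 2 - 1 = (q - 1) * (q + 1) := by
    obtain ⟨r, rfl⟩ : ∃ r, q = r + 1 := ⟨q - 1, by omega⟩
    rw [Nat.add_sub_cancel, show (r + 1) ^ 2 = r * (r + 1 + 1) + 1 by ring, Nat.add_sub_cancel]
  have hL : padicValNat 2 (q ^ 2 - 1) = padicValNat 2 (q - 1) + padicValNat 2 (q + 1) := by
    rw [hprod, padicValNat.mul (by omega) (by omega)]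
  have hone : (-1 : F) ≠ 1 := by
    intro h
    have : ringChar F = 2 := by
      refine ringChar.eq_iff.2 ((CharP.charP_iff_prime_eq_zero Nat.prime_two).2 ?_)
      push_cast
      linear_combination -h
    have := (FiniteField.even_card_iff_char_two (F := F)).1 this
    omega
  rw [← hq]
  rcases (show q % 4 = 1 ∨ q % 4 = 3 by omega) with h4 | h4
  · refine ⟨padicValNat 2 (q - 1), ?_, by rw [hL, padic_one (show (q + 1) % 4 = 2 by omega)], ?_⟩
    · exact (padicValNat_dvd_iff_le (by omega)).1 (Nat.dvd_of_mod_eq_zero (by norm_num; omega))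
    · have hdiv : 2 ^ padicValNat 2 (q - 1) ∣ Nat.card Fˣ := by
        rw [Nat.card_units, Nat.card_eq_fintype_card, ← hq]
        exact pow_padicValNat_dvd
      obtain ⟨g, hg⟩ := exists_orderOf hdiv
      refine ⟨⟨anti2 1 1, diag2 g 1, diag2 1 (-1), 1, 1, g, 1, ?_, ?_, ?_, ?_, ?_, ?_, ?_, ?_, ?_,
        ?_, ?_, ?_⟩⟩
      · rw [anti2_mul_anti2, one_mul, diag2_one]
      · simp [anti2, Matrix.det_fin_two]
      · rw [diag2_mul_diag2, diag2_mul_diag2, mul_comm g, mul_comm (1 : Fˣ) (-1)]
      · rw [mul_one, one_mul]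
      · rw [mul_one, one_mul]
      · rw [anti2_mul_diag2, anti2_mul_anti2]
        exact Units.ext (by ext i j; fin_cases i <;> fin_cases j <;> simp [diag2])
      · rw [diag2_mul_diag2, sc, one_mul, neg_mul_neg, one_mul]
      · rw [one_mul, mul_one, anti2_mul_anti2, one_mul, sc]
      · simp [diag2, Matrix.det_fin_two]
      · rw [anti2_mul_diag2, anti2_mul_anti2, diag2_mul_diag2]
        simp [sc]
      · have hp : ∀ n, (diag2 g (1 : Fˣ)) ^ n = diag2 (g ^ n) 1 := fun n => by
          induction n with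
          | zero => simp [diag2_one]
          | succ n ih => rw [pow_succ, ih, diag2_mul_diag2, pow_succ, mul_one]
        rw [hp, ← hg, pow_orderOf_eq_one, sc]
      · intro n hn
        have hp : ∀ n, (diag2 g (1 : Fˣ)) ^ n = diag2 (g ^ n) 1 := fun n => by
          induction n with
          | zero => simp [diag2_one]
          | succ n ih => rw [pow_succ, ih, diag2_mul_diag2, pow_succ, mul_one]
        rw [hp, anti2_mul_diag2, anti2_mul_anti2] at hn
        have := congrArg (fun M : GL (Fin 2) F => (M : Matrix (Fin 2) (Fin 2) F) 0 0) hn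
        simp [diag2] at this
        rw [← hg]
        exact orderOf_dvd_of_pow_eq_one (Units.ext (by simpa using this.symm))
  · refine ⟨padicValNat 2 (q + 1), ?_, by rw [hL, padic_one (show (q - 1) % 4 = 2 by omega)]; omega, ?_⟩
    · exact (padicValNat_dvd_iff_le (by omega)).1 (Nat.dvd_of_mod_eq_zero (by norm_num; omega))
    haveI : Fact (∀ r : F, r ^ 2 ≠ (-1 : F) + 0 * r) := ⟨fun r hr => by
      have hs : IsSquare (-1 : F) := ⟨r, by rw [← pow_two, hr]; simp⟩
      rw [FiniteField.isSquare_neg_one_iff, ← hq] at hs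
      omega⟩
    haveI : Finite (QuadraticAlgebra F (-1) 0) := Finite.of_equiv _ (QuadraticAlgebra.equivProd (-1 : F) 0).symm
    let M : (QuadraticAlgebra F (-1) 0) →* Matrix (Fin 2) (Fin 2) F :=
      { toFun := fun z => !![z.re, -z.im; z.im, z.re]
        map_one' := by ext i j; fin_cases i <;> fin_cases j <;> simp
        map_mul' := fun x y => by
          ext i j
          fin_cases i <;> fin_cases j <;> simp [Matrix.mul_apply, Fin.sum_univ_two] <;> ring }
    let M' : (QuadraticAlgebra F (-1) 0)ˣ →* GL (Fin 2) F := Units.map M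
    have hdetM : ∀ z : (QuadraticAlgebra F (-1) 0)ˣ, ((M' z : GL (Fin 2) F) : Matrix (Fin 2) (Fin 2) F).det =
        QuadraticAlgebra.norm (z : (QuadraticAlgebra F (-1) 0)) := fun z => by
      simp [M', M, Matrix.det_fin_two, QuadraticAlgebra.norm_def]
    have hcard : 2 ^ (padicValNat 2 (q + 1) + 1) ∣ Nat.card (QuadraticAlgebra F (-1) 0)ˣ := by
      rw [Nat.card_units, Nat.card_congr (QuadraticAlgebra.equivProd (-1 : F) 0), Nat.card_prod,
        Nat.card_eq_fintype_card, ← hq, ← pow_two, hprod, pow_succ', mul_comm (q - 1)]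
      exact mul_comm 2 (2 ^ padicValNat 2 (q + 1)) ▸
        Nat.mul_dvd_mul pow_padicValNat_dvd (Nat.dvd_of_mod_eq_zero (by omega))
    obtain ⟨g, hg⟩ := exists_orderOf hcard
    obtain ⟨x, y, hxy⟩ := FiniteField.exists_root_sum_quadratic (R := F)
      (f := Polynomial.X ^ 2) (g := Polynomial.X ^ 2 + Polynomial.C 1)
      (Polynomial.degree_X_pow 2) (Polynomial.degree_X_pow_add_C (by norm_num) 1)
      (by rw [← hq]; exact hq2)
    simp at hxy
    have hnorm : QuadraticAlgebra.norm (⟨x, y⟩ : (QuadraticAlgebra F (-1) 0)) = -1 := by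
      simp [QuadraticAlgebra.norm_def]
      linear_combination hxy
    have hb0 : (⟨x, y⟩ : (QuadraticAlgebra F (-1) 0)) ≠ 0 := fun h => by
      rw [h, QuadraticAlgebra.norm_zero] at hnorm
      exact one_ne_zero (α := F) (by linear_combination hnorm)
    let β : (QuadraticAlgebra F (-1) 0)ˣ := Units.mk0 _ hb0
    let om0 : (QuadraticAlgebra F (-1) 0)ˣ := Units.mk0 (⟨0, 1⟩ : (QuadraticAlgebra F (-1) 0)) (fun h => one_ne_zero (congrArg QuadraticAlgebra.im h))
    have hstar : ∀ z : (QuadraticAlgebra F (-1) 0)ˣ, diag2 1 (-1) * M' z * diag2 1 (-1) = M' (Units.map (starRingEnd (QuadraticAlgebra F (-1) 0)).toMonoidHom z) := by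
      intro z
      refine Units.ext ?_
      ext i j
      fin_cases i <;> fin_cases j <;> simp [M', M, diag2, starRingEnd_apply, Matrix.mul_apply, Fin.sum_univ_two]
    have hN : ∀ z : (QuadraticAlgebra F (-1) 0)ˣ, M' z * M' (Units.map (starRingEnd (QuadraticAlgebra F (-1) 0)).toMonoidHom z) =
        sc (Units.map (QuadraticAlgebra.norm (R := F) (a := (-1)) (b := 0)) z) := by
      intro z
      rw [← map_mul]
      refine Units.ext ?_
      ext i j
      fin_cases i <;> fin_cases j <;>
        simp [M', M, sc, diag2, starRingEnd_apply, QuadraticAlgebra.norm_def, mul_comm] <;> ring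
    have key_dvd : ∀ n : ℕ, ((g ^ n : (QuadraticAlgebra F (-1) 0)ˣ) : QuadraticAlgebra F (-1) 0).im = 0 →
        2 ^ padicValNat 2 (q + 1) ∣ n := by
      intro n him
      obtain ⟨r, hr⟩ : ∃ r : F, ((g ^ n : (QuadraticAlgebra F (-1) 0)ˣ) : (QuadraticAlgebra F (-1) 0)) = algebraMap F (QuadraticAlgebra F (-1) 0) r :=
        ⟨((g ^ n : (QuadraticAlgebra F (-1) 0)ˣ) : (QuadraticAlgebra F (-1) 0)).re, QuadraticAlgebra.ext (by simp) (by rw [him]; simp)⟩
      have hr0 : r ≠ 0 := fun h => (g ^ n).ne_zero (by rw [hr, h, map_zero])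
      have hpow : g ^ (n * (q - 1)) = 1 := by
        refine Units.ext ?_
        rw [pow_mul, Units.val_pow_eq_pow_val, hr, ← map_pow, hq,
          FiniteField.pow_card_sub_one_eq_one r hr0, map_one, Units.val_one]
      have hd := orderOf_dvd_of_pow_eq_one hpow
      rw [hg, pow_succ] at hd
      obtain ⟨t, ht⟩ : ∃ t, q - 1 = 2 * (2 * t + 1) := ⟨(q - 1) / 4, by omega⟩
      rw [ht, show n * (2 * (2 * t + 1)) = n * (2 * t + 1) * 2 by ring] at hd
      exact (Nat.Coprime.pow_left _ (Nat.coprime_two_left.2 ⟨t, rfl⟩)).dvd_of_dvd_mul_right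
        (Nat.dvd_of_mul_dvd_mul_right (by norm_num) hd)
    refine ⟨⟨diag2 1 (-1), M' g, M' om0, M' β, -1, Units.map (QuadraticAlgebra.norm (R := F) (a := (-1)) (b := 0)) g, -1,
      ?_, ?_, ?_, ?_, ?_, ?_, ?_, ?_, ?_, ?_, ?_, ?_⟩⟩
    · rw [diag2_mul_diag2, neg_mul_neg, one_mul, diag2_one]
    · simp [diag2, Matrix.det_fin_two]
    · rw [← map_mul, ← map_mul, mul_comm]
    · rw [← map_mul, ← map_mul, mul_comm]
    · rw [← map_mul, ← map_mul, mul_comm]
    · rw [hstar]
      refine Units.ext ?_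
      ext i j
      fin_cases i <;> fin_cases j <;> simp [M', M, om0, starRingEnd_apply]
    · rw [← map_mul]
      refine Units.ext ?_
      ext i j
      fin_cases i <;> fin_cases j <;> simp [M', M, om0, sc, diag2]
    · rw [hstar, hN]
      refine congrArg sc (Units.ext ?_)
      simpa [β] using hnorm
    · rw [hdetM, hdetM]
      simp only [om0, β, Units.val_mk0, hnorm]
      simp [QuadraticAlgebra.norm_def]
    · rw [hstar, hN]
    · rw [← map_pow]
      have h2 : ((g ^ (2 ^ padicValNat 2 (q + 1)) : (QuadraticAlgebra F (-1) 0)ˣ) : (QuadraticAlgebra F (-1) 0)) = -1 := by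
        have hsq : ((g ^ (2 ^ padicValNat 2 (q + 1)) : (QuadraticAlgebra F (-1) 0)ˣ) : (QuadraticAlgebra F (-1) 0)) * ((g ^ (2 ^ padicValNat 2 (q + 1)) : (QuadraticAlgebra F (-1) 0)ˣ) : (QuadraticAlgebra F (-1) 0)) = 1 := by
          rw [← Units.val_mul, ← pow_add, ← two_mul, ← pow_succ', ← hg, pow_orderOf_eq_one, Units.val_one]
        rcases mul_self_eq_one_iff.1 hsq with h | h
        · exfalso
          have h' := orderOf_dvd_of_pow_eq_one (Units.ext h : g ^ (2 ^ padicValNat 2 (q + 1)) = 1)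
          rw [hg] at h'
          have := Nat.le_of_dvd (by positivity) h'
          have h3 := Nat.pow_lt_pow_right (show 1 < 2 by norm_num)
            (show padicValNat 2 (q + 1) < padicValNat 2 (q + 1) + 1 by omega)
          omega
        · exact h
      generalize g ^ (2 ^ padicValNat 2 (q + 1)) = z at h2 ⊢
      refine Units.ext ?_
      ext i j
      fin_cases i <;> fin_cases j <;> simp [M', M, h2, sc, diag2]
    · intro n hn
      rw [← map_pow, hstar] at hn
      suffices hs : ∀ z : (QuadraticAlgebra F (-1) 0)ˣ,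
          diag2 1 (-1) * M' z * diag2 1 (-1) = M' z → (z : QuadraticAlgebra F (-1) 0).im = 0 by
        refine key_dvd n (hs (g ^ n) ?_)
        rw [hstar]; exact hn
      intro z hz
      rw [hstar] at hz
      have h10 := congrArg (fun A : GL (Fin 2) F => (A : Matrix (Fin 2) (Fin 2) F) 1 0) hz
      simp [M', M, starRingEnd_apply] at h10
      have h2' : (z : QuadraticAlgebra F (-1) 0).im + (z : QuadraticAlgebra F (-1) 0).im = 0 := by
        linear_combination -h10
      rw [← two_mul] at h2'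
      exact (mul_eq_zero.1 h2').resolve_left fun h2 => hone (by linear_combination -h2)

end Cfsg.Agent.Lib.G2SylowClasses
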