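import Mathlib

/-!
# A frame for the Sylow 2-subgroups of the groups of type G2 in odd characteristic

`(C_m × C_m) : ⟨i, s⟩` with `m = 2 ^ k`, `i` inverting and `s` exchanging the two factors.
-/

set_option autoImplicit false

namespace Cfsg.Agent.Lib.G2SylowClasses

/-- the lattice -/
abbrev V (k : ℕ) := ZMod (2 ^ k) × ZMod (2 ^ k)

/-- generators of `(C_m × C_m) : (C_2 × C_2)` inside a group -/
structure Frame (G : Type*) [Group G] (k : ℕ) where
  two_le : 2 ≤ k
  a : V k → G
  i : G
  s : G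
  a_add : ∀ v w, a (v + w) = a v * a w
  inj : ∀ v, a v = 1 → v = 0
  i_sq : i * i = 1
  s_sq : s * s = 1
  i_s : i * s = s * i
  i_a : ∀ v, i * a v = a (-v) * i
  s_a : ∀ v, s * a v = a v.swap * s

namespace Frame

variable {G : Type*} [Group G] {k : ℕ} (F : Frame G k)

/-- the outer part -/
def W : Bool → Bool → G
  | false, false => 1
  | true, false => F.i
  | false, true => F.s
  | true, true => F.i * F.s

/-- the action of the outer part -/
def act : Bool → Bool → V k → V k
  | false, false, v => v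
  | true, false, v => -v
  | false, true, v => v.swap
  | true, true, v => -v.swap

/-- the general element -/
def el (v : V k) (e f : Bool) : G := F.a v * F.W e f

/-- image under an injective homomorphism -/
def map {H : Type*} [Group H] (φ : G →* H) (hφ : Function.Injective φ) : Frame H k where
  two_le := F.two_le
  a v := φ (F.a v)
  i := φ F.i
  s := φ F.s
  a_add v w := by rw [F.a_add, map_mul]
  inj v h := F.inj v (hφ (by rw [h, map_one]))
  i_sq := by rw [← map_mul, F.i_sq, map_one]
  s_sq := by rw [← map_mul, F.s_sq, map_one]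
  i_s := by rw [← map_mul, ← map_mul, F.i_s]
  i_a v := by rw [← map_mul, ← map_mul, F.i_a]
  s_a v := by rw [← map_mul, ← map_mul, F.s_a]

theorem map_el {H : Type*} [Group H] (φ : G →* H) (hφ : Function.Injective φ) (v : V k)
    (e f : Bool) : (F.map φ hφ).el v e f = φ (F.el v e f) := by
  cases e <;> cases f <;> simp [el, W, map]

theorem a_zero : F.a 0 = 1 := by
  have := F.a_add 0 0
  rwa [add_zero, left_eq_mul] at this

theorem a_neg (v : V k) : F.a (-v) = (F.a v)⁻¹ := by
  refine eq_inv_of_mul_eq_one_left ?_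
  rw [← F.a_add, neg_add_cancel, F.a_zero]

theorem a_inj {v w : V k} (h : F.a v = F.a w) : v = w := by
  refine sub_eq_zero.1 (F.inj _ ?_)
  rw [sub_eq_add_neg, F.a_add, F.a_neg, h, mul_inv_cancel]

theorem W_a (e f : Bool) (v : V k) : F.W e f * F.a v = F.a (act e f v) * F.W e f := by
  cases e <;> cases f
  · simp [W, act]
  · exact F.s_a v
  · exact F.i_a v
  · show F.i * F.s * F.a v = F.a (-v.swap) * (F.i * F.s)
    rw [mul_assoc, F.s_a, ← mul_assoc, F.i_a, mul_assoc]

theorem W_mul (e f e' f' : Bool) : F.W e f * F.W e' f' = F.W (xor e e') (xor f f') := by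
  have h1 : F.s * F.i = F.i * F.s := F.i_s.symm
  have hi : ∀ x, F.i * (F.i * x) = x := fun x => by rw [← mul_assoc, F.i_sq, one_mul]
  have hs : ∀ x, F.s * (F.s * x) = x := fun x => by rw [← mul_assoc, F.s_sq, one_mul]
  have hsi : ∀ x, F.s * (F.i * x) = F.i * (F.s * x) := fun x => by
    rw [← mul_assoc, h1, mul_assoc]
  cases e <;> cases f <;> cases e' <;> cases f' <;>
    simp [W, mul_assoc, hi, hs, hsi, h1, F.i_sq, F.s_sq]

theorem el_mul (v w : V k) (e f e' f' : Bool) :
    F.el v e f * F.el w e' f' = F.el (v + act e f w) (xor e e') (xor f f') := by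
  rw [el, el, el, mul_assoc, ← mul_assoc (F.W e f), F.W_a, mul_assoc, F.W_mul, ← mul_assoc,
    ← F.a_add]

theorem el_one : F.el 0 false false = 1 := by simp [el, W, F.a_zero]

theorem el_a (v : V k) : F.el v false false = F.a v := by simp [el, W]

theorem el_i : F.el 0 true false = F.i := by simp [el, W, F.a_zero]

theorem el_s : F.el 0 false true = F.s := by simp [el, W, F.a_zero]

theorem el_is : F.el 0 true true = F.i * F.s := by simp [el, W, F.a_zero]

theorem el_inv_mem (v : V k) (e f : Bool) :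
    ∃ w, (F.el v e f)⁻¹ = F.el w e f := by
  refine ⟨-act e f v, inv_eq_of_mul_eq_one_left ?_⟩
  rw [el_mul]
  have hh := F.el_one
  cases e <;> cases f <;> simp [act, el_one, Prod.swap] <;> exact hh

include F in
theorem eq_act_eq_self {e f : Bool} (h : ∀ v : V k, act e f v = v) : e = false ∧ f = false := by
  have h3 : 3 ≤ 2 ^ k :=
    le_trans (by norm_num) (Nat.pow_le_pow_right (by norm_num : 1 ≤ 2) F.two_le)
  have h01 : ((0 : ℕ) : ZMod (2 ^ k)) ≠ ((1 : ℕ) : ZMod (2 ^ k)) := fun h => by
    rw [ZMod.natCast_eq_natCast_iff', Nat.mod_eq_of_lt (by omega), Nat.mod_eq_of_lt (by omega)] at h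
    omega
  have h12 : ((2 : ℕ) : ZMod (2 ^ k)) ≠ ((0 : ℕ) : ZMod (2 ^ k)) := fun h => by
    rw [ZMod.natCast_eq_natCast_iff', Nat.mod_eq_of_lt (by omega), Nat.mod_eq_of_lt (by omega)] at h
    omega
  have key := h (1, 0)
  push_cast at h01 h12
  cases e <;> cases f <;> simp [act, Prod.swap] at key ⊢
  · exact h01 key.1
  · exact h12 (by linear_combination -key)
  · exact h01 key.1

theorem el_inj {v w : V k} {e f e' f' : Bool} (h : F.el v e f = F.el w e' f') :
    v = w ∧ e = e' ∧ f = f' := by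
  have h1 : F.a (w - v) = F.W (xor e e') (xor f f') := by
    have h' : F.a v * F.W e f = F.a w * F.W e' f' := h
    calc F.a (w - v) = F.a (-v) * F.a w := by rw [← F.a_add, neg_add_eq_sub]
      _ = F.a (-v) * (F.a w * F.W e' f' * F.W e' f') := by
        rw [mul_assoc (F.a w), F.W_mul, Bool.xor_self, Bool.xor_self]; simp [W]
      _ = F.a (-v) * (F.a v * F.W e f * F.W e' f') := by rw [h']
      _ = F.W (xor e e') (xor f f') := by
        rw [mul_assoc (F.a v), ← mul_assoc, ← F.a_add, neg_add_cancel, F.a_zero, one_mul, F.W_mul]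
  have h2 : xor e e' = false ∧ xor f f' = false := by
    refine F.eq_act_eq_self fun x => F.a_inj ?_
    refine mul_right_cancel (b := F.W (xor e e') (xor f f')) ?_
    rw [← F.W_a, ← h1, ← F.a_add, ← F.a_add, add_comm]
  rw [h2.1, h2.2] at h1
  refine ⟨(sub_eq_zero.1 (F.inj _ (by rw [h1]; rfl))).symm, ?_, ?_⟩
  · revert h2; cases e <;> cases e' <;> simp
  · revert h2; cases f <;> cases f' <;> simp

/-- the subgroup of all the forms -/
def sub : Subgroup G where
  carrier := {x | ∃ v e f, x = F.el v e f}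
  one_mem' := ⟨0, false, false, F.el_one.symm⟩
  mul_mem' := by
    rintro _ _ ⟨v, e, f, rfl⟩ ⟨w, e', f', rfl⟩
    exact ⟨_, _, _, F.el_mul v w e f e' f'⟩
  inv_mem' := by
    rintro _ ⟨v, e, f, rfl⟩
    obtain ⟨w, hw⟩ := F.el_inv_mem v e f
    exact ⟨_, _, _, hw⟩

theorem el_mem (v : V k) (e f : Bool) : F.el v e f ∈ F.sub := ⟨v, e, f, rfl⟩

theorem card_sub : Nat.card F.sub = 4 ^ (k + 1) := by
  have e : (V k × Bool × Bool) ≃ F.sub := by
    refine Equiv.ofBijective (fun x => ⟨F.el x.1 x.2.1 x.2.2, F.el_mem _ _ _⟩) ⟨?_, ?_⟩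
    · rintro ⟨v, e, f⟩ ⟨w, e', f'⟩ h
      obtain ⟨rfl, rfl, rfl⟩ := F.el_inj (congrArg Subtype.val h)
      rfl
    · rintro ⟨_, v, e, f, rfl⟩
      exact ⟨(v, e, f), rfl⟩
  rw [← Nat.card_congr e]
  simp only [Nat.card_prod, Nat.card_zmod, Nat.card_eq_fintype_card, Fintype.card_bool]
  rw [show (4 : ℕ) = 2 * 2 by norm_num, mul_pow, pow_succ]
  simp [Nat.card_eq_fintype_card, ZMod.card]
  ring

end Frame

end Cfsg.Agent.Lib.G2SylowClasses
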