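import Cfsg.Agent.Lib.G2SylowClasses.Lattice

/-!
The involutions of a frame and their classes inside it.
-/

set_option autoImplicit false

namespace Cfsg.Agent.Lib.G2SylowClasses.Frame

variable {G : Type*} [Group G] {k : ℕ} (F : Frame G k)

/-- the central involution -/
def z : G := F.a (half k, half k)

/-- an involution of `A` -/
def u : G := F.a (half k, 0)

/-- the other involution of `A` -/
def u' : G := F.a (0, half k)

include F in
theorem one_le : 1 ≤ k := le_trans (by norm_num) F.two_le

/-- the two parities differ -/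
def Mixed (v : V k) : Prop := par F.one_le v.1 ≠ par F.one_le v.2

theorem el_sq (v : V k) (e f : Bool) : F.el v e f * F.el v e f = F.a (v + act e f v) := by
  rw [el_mul, Bool.xor_self, Bool.xor_self, el_a]

theorem el_ne_one {v : V k} {e f : Bool} (h : e = true ∨ f = true) : F.el v e f ≠ 1 := by
  rw [← F.el_one]
  intro h'
  obtain ⟨-, he, hf⟩ := F.el_inj h'
  rcases h with h | h <;> simp [h] at he hf

theorem conj_a (w v : V k) (e f : Bool) :
    F.a w * F.el v e f * (F.a w)⁻¹ = F.el (w + v + act e f (-w)) e f := by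
  rw [← F.a_neg, ← F.el_a w, ← F.el_a (-w), el_mul, el_mul]
  simp [act]

theorem isConj_conj_a (w v : V k) (e f : Bool) :
    IsConj (F.el v e f) (F.el (w + v + act e f (-w)) e f) :=
  isConj_iff.2 ⟨F.a w, F.conj_a w v e f⟩

theorem isConj_swap (v : V k) : IsConj (F.el v true false) (F.el v.swap true false) :=
  isConj_iff.2 ⟨F.s, by
    rw [inv_eq_of_mul_eq_one_right F.s_sq, ← F.el_s, el_mul, el_mul]
    simp [act]⟩

theorem isConj_u : IsConj F.u F.u' :=
  isConj_iff.2 ⟨F.s, by
    rw [u, u', F.s_a, mul_assoc, mul_inv_cancel, mul_one]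
    rfl⟩

theorem z_mem : F.z ∈ F.sub := ⟨_, false, false, (F.el_a _).symm⟩

theorem z_sq : F.z * F.z = 1 := by
  rw [z, ← F.a_add]
  simp only [Prod.mk_add_mk, half_add_half F.one_le]
  exact F.a_zero

theorem z_ne_one : F.z ≠ 1 := fun h => half_ne F.one_le (congrArg Prod.fst (F.inj _ h))

theorem u_mul_z : F.u * F.z = F.u' := by
  rw [u, z, u', ← F.a_add]
  simp [half_add_half F.one_le]

theorem z_comm {x : G} (hx : x ∈ F.sub) : x * F.z = F.z * x := by
  obtain ⟨v, e, f, rfl⟩ := hx
  rw [z, ← F.el_a (half k, half k), el_mul, el_mul]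
  cases e <;> cases f <;> simp [act, half_neg F.one_le, add_comm]

theorem a_invol {v : V k} (h : F.a v * F.a v = 1) (h1 : F.a v ≠ 1) :
    F.a v = F.z ∨ F.a v = F.u ∨ F.a v = F.u' := by
  have h0 := F.inj _ (by rw [F.a_add]; exact h : F.a (v + v) = 1)
  obtain ⟨x, y⟩ := v
  rcases eq_half_of_add_self F.one_le (congrArg Prod.fst h0) with hx | hx <;>
    rcases eq_half_of_add_self F.one_le (congrArg Prod.snd h0) with hy | hy <;>
    simp only at hx hy <;> subst hx hy
  · exact absurd F.a_zero h1
  · exact Or.inr (Or.inr rfl)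
  · exact Or.inr (Or.inl rfl)
  · exact Or.inl rfl

theorem s_invol {v : V k} (h : F.el v false true * F.el v false true = 1) :
    IsConj (F.el v false true) F.s := by
  rw [el_sq] at h
  have h0 := F.inj _ h
  have h1 : v.1 + v.2 = 0 := congrArg Prod.fst h0
  refine (F.isConj_conj_a (-v.1, 0) v false true).trans ?_
  rw [← F.el_s]
  refine isConj_iff.2 ⟨1, ?_⟩
  rw [one_mul, inv_one, mul_one]
  congr 1
  ext <;> simp [act]
  · linear_combination h1

theorem is_invol {v : V k} (h : F.el v true true * F.el v true true = 1) :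
    IsConj (F.el v true true) (F.i * F.s) := by
  rw [el_sq] at h
  have h0 := F.inj _ h
  have h1 : v.1 + -v.2 = 0 := congrArg Prod.fst h0
  refine (F.isConj_conj_a (-v.1, 0) v true true).trans ?_
  rw [← F.el_is]
  refine isConj_iff.2 ⟨1, ?_⟩
  rw [one_mul, inv_one, mul_one]
  congr 1
  ext <;> simp [act]
  · linear_combination -h1

theorem isConj_of_par {v v' : V k} (h1 : par F.one_le v.1 = par F.one_le v'.1)
    (h2 : par F.one_le v.2 = par F.one_le v'.2) :
    IsConj (F.el v' true false) (F.el v true false) := by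
  obtain ⟨a, ha⟩ := exists_two_mul F.one_le h1
  obtain ⟨b, hb⟩ := exists_two_mul F.one_le h2
  refine (F.isConj_conj_a (a, b) v' true false).trans (isConj_iff.2 ⟨1, ?_⟩)
  rw [one_mul, inv_one, mul_one]
  congr 1
  ext <;> simp [act]
  · linear_combination ha
  · linear_combination hb

theorem mixed_isConj {v v' : V k} (h : F.Mixed v) (h' : F.Mixed v') :
    IsConj (F.el v true false) (F.el v' true false) := by
  unfold Mixed at h h'
  rcases par_cases F.one_le v.1 with a | a <;> rcases par_cases F.one_le v.2 with b | b <;>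
    rcases par_cases F.one_le v'.1 with c | c <;> rcases par_cases F.one_le v'.2 with d | d <;>
    first
    | exact absurd (a.trans b.symm) h
    | exact absurd (c.trans d.symm) h'
    | (refine F.isConj_of_par ?_ ?_ <;> simp [a, b, c, d] <;> done)
    | (refine (F.isConj_swap v).trans (F.isConj_of_par ?_ ?_) <;> simp [a, b, c, d] <;> done)

theorem not_mixed_isConj {v : V k} (h : ¬ F.Mixed v) :
    IsConj (F.el v true false) F.i ∨ IsConj (F.el v true false) (F.el (1, 1) true false) := by
  rw [Mixed, not_not] at h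
  rcases par_cases F.one_le v.1 with a | a
  · left
    rw [← F.el_i]
    exact F.isConj_of_par (by simp [a]) (by simp [← h, a])
  · right
    exact F.isConj_of_par (by simp [a]) (by simp [← h, a])

/-- the centraliser of a mixed involution -/
theorem comm_mixed {v p : V k} (hv : F.Mixed v) {e f : Bool}
    (h : F.el p e f * F.el v true false = F.el v true false * F.el p e f) : f = false := by
  cases f with
  | false => rfl
  | true =>
    exfalso
    apply hv
    rw [el_mul, el_mul] at h
    have h' := congrArg (fun x : V k => par F.one_le x.1) (F.el_inj h).1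
    simp only [act, Prod.fst_add, Prod.fst_neg, map_add, map_neg] at h'
    revert h'
    cases e <;> simp only [act, Prod.fst_swap, Prod.fst_neg, map_neg] <;>
      generalize par F.one_le v.1 = a <;> generalize par F.one_le v.2 = b <;>
      generalize par F.one_le p.1 = c <;> revert a b c <;> decide

/-- commutators of the frame lie in `A` -/
theorem commutator_mem {x y : G} (hx : x ∈ F.sub) (hy : y ∈ F.sub) :
    ∃ v, x * y * x⁻¹ * y⁻¹ = F.a v := by
  obtain ⟨v, e, f, rfl⟩ := hx
  obtain ⟨w, e', f', rfl⟩ := hy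
  refine ⟨(v + act e f w) - (w + act e' f' v), ?_⟩
  rw [show F.el v e f * F.el w e' f' * (F.el v e f)⁻¹ * (F.el w e' f')⁻¹ =
    (F.el v e f * F.el w e' f') * (F.el w e' f' * F.el v e f)⁻¹ by group, el_mul, el_mul,
    Bool.xor_comm e' e, Bool.xor_comm f' f, mul_inv_eq_iff_eq_mul]
  rw [el, el, ← mul_assoc, ← F.a_add, sub_add_cancel]

/-- a commutator equal to `z` inside the centraliser -/
def Good (r : G) : Prop :=
  ∃ a ∈ F.sub, ∃ b ∈ F.sub, a * r = r * a ∧ b * r = r * b ∧ a * b * a⁻¹ * b⁻¹ = F.z

theorem good_of_eq {v w : V k} (e f e' f' : Bool) (p : V k)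
    (h1 : F.el v e f * F.el p e' f' = F.el p e' f' * F.el v e f)
    (h2 : F.a w * F.el p e' f' = F.el p e' f' * F.a w)
    (h3 : act e f w - w = (half k, half k)) : F.Good (F.el p e' f') := by
  refine ⟨_, F.el_mem v e f, _, ⟨w, false, false, (F.el_a w).symm⟩, h1, h2, ?_⟩
  rw [z, ← h3, mul_inv_eq_iff_eq_mul, ← F.a_add, sub_add_cancel, mul_inv_eq_iff_eq_mul,
    ← F.el_a w, ← F.el_a (act e f w), el_mul, el_mul, Bool.xor_false, Bool.xor_false,
    Bool.false_xor, Bool.false_xor]
  simp [act, add_comm]

include F in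
theorem exists_quarter : ∃ x : ZMod (2 ^ k), x + x = half k := by
  refine ⟨((2 ^ (k - 2) : ℕ) : ZMod (2 ^ k)), ?_⟩
  have hk := F.two_le
  rw [half, ← Nat.cast_add, ← two_mul, ← pow_succ', show k - 2 + 1 = k - 1 by omega]

theorem good_s : F.Good F.s := by
  obtain ⟨x, hx⟩ := F.exists_quarter
  rw [← F.el_s]
  refine F.good_of_eq (v := 0) (w := (x, x)) true false false true 0 ?_ ?_ ?_
  · rw [el_mul, el_mul]; simp [act]
  · rw [← F.el_a, el_mul, el_mul]; simp [act]
  · simp [act]
    linear_combination -(half_add_half F.one_le) + (-1) * hx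

theorem good_is : F.Good (F.i * F.s) := by
  obtain ⟨x, hx⟩ := F.exists_quarter
  rw [← F.el_is]
  refine F.good_of_eq (v := 0) (w := (x, -x)) true false true true 0 ?_ ?_ ?_
  · rw [el_mul, el_mul]; simp [act]
  · rw [← F.el_a, el_mul, el_mul]; simp [act]
  · simp [act]
    exact ⟨by linear_combination -(half_add_half F.one_le) + (-1) * hx, by linear_combination hx⟩

theorem good_i (p : V k) (hp : p.1 = p.2) : F.Good (F.el p true false) := by
  refine F.good_of_eq (v := 0) (w := (half k, 0)) false true true false p ?_ ?_ ?_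
  · rw [el_mul, el_mul]
    congr 1
    ext <;> simp [act, hp]
  · rw [← F.el_a, el_mul, el_mul]
    simp [act, half_neg F.one_le, add_comm]
  · simp [act, half_neg F.one_le]

end Cfsg.Agent.Lib.G2SylowClasses.Frame
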