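import Cfsg.Agent.Lib.G2SylowClasses.Frame

/-!
Halves and parity in `ZMod (2 ^ k)`.
-/

set_option autoImplicit false

namespace Cfsg.Agent.Lib.G2SylowClasses

variable {k : ℕ}

/-- the element of order two -/
def half (k : ℕ) : ZMod (2 ^ k) := ((2 ^ (k - 1) : ℕ) : ZMod (2 ^ k))

theorem half_ne (hk : 1 ≤ k) : half k ≠ 0 := by
  intro h
  rw [half, ZMod.natCast_eq_zero_iff] at h
  have h1 := Nat.le_of_dvd (by positivity) h
  have : 2 ^ (k - 1) < 2 ^ k := Nat.pow_lt_pow_right (by norm_num) (by omega)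
  omega

theorem half_add_half (hk : 1 ≤ k) : half k + half k = 0 := by
  rw [half, ← Nat.cast_add, ← two_mul, ← pow_succ', Nat.sub_add_cancel hk, ZMod.natCast_self]

theorem half_neg (hk : 1 ≤ k) : -half k = half k :=
  neg_eq_of_add_eq_zero_left (half_add_half hk)

theorem eq_half_of_add_self {x : ZMod (2 ^ k)} (hk : 1 ≤ k) (h : x + x = 0) : x = 0 ∨ x = half k := by
  have hx := ZMod.natCast_zmod_val x
  have hlt := ZMod.val_lt x
  rw [← hx, ← Nat.cast_add, ZMod.natCast_eq_zero_iff] at h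
  have hp : 2 ^ k = 2 * 2 ^ (k - 1) := by rw [← pow_succ', Nat.sub_add_cancel hk]
  obtain ⟨c, hc⟩ := h
  have : c = 0 ∨ c = 1 := by
    rcases Nat.lt_or_ge c 2 with h | h
    · omega
    · have := Nat.mul_le_mul_left (2 ^ k) h
      omega
  rcases this with rfl | rfl
  · left; rw [← hx, show x.val = 0 by omega, Nat.cast_zero]
  · right; rw [← hx, half, show x.val = 2 ^ (k - 1) by omega]

/-- parity -/
def par (hk : 1 ≤ k) : ZMod (2 ^ k) →+* ZMod 2 :=
  ZMod.castHom (dvd_pow_self 2 (by omega : k ≠ 0)) _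

theorem par_half (hk : 2 ≤ k) : par (by omega) (half k) = 0 := by
  rw [half, map_natCast, ZMod.natCast_eq_zero_iff]
  exact dvd_pow_self 2 (by omega)

theorem exists_two_mul (hk : 1 ≤ k) {x y : ZMod (2 ^ k)} (h : par hk x = par hk y) :
    ∃ w, w + w + y = x := by
  have hp : par hk (x - y) = 0 := by rw [map_sub, h, sub_self]
  rw [← ZMod.natCast_zmod_val (x - y), map_natCast, ZMod.natCast_eq_zero_iff] at hp
  obtain ⟨c, hc⟩ := hp
  refine ⟨(c : ZMod (2 ^ k)), ?_⟩
  rw [← Nat.cast_add, ← two_mul, ← hc, ZMod.natCast_zmod_val, sub_add_cancel]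

theorem par_cases (hk : 1 ≤ k) (x : ZMod (2 ^ k)) : par hk x = 0 ∨ par hk x = 1 := by
  revert x
  intro x
  generalize par hk x = y
  revert y
  decide

end Cfsg.Agent.Lib.G2SylowClasses
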