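import Cfsg.Agent.Lib.G2SylowClasses.Exists
import Cfsg.Agent.Lib.G2Inv.Iso

/-!
Sylow 2-subgroups of the Chevalley groups of type G2 in odd characteristic carry a frame.
-/

set_option autoImplicit false

namespace Cfsg.Agent.Lib.G2SylowClasses

open Cfsg.Lie

universe u v

theorem exists_frame {F : Type u} [Field F] [Fintype F] (hF : Odd (Fintype.card F))
    (P : Sylow 2 ↥(chevG2.group F)) :
    ∃ k, ∃ Φ : Frame ↥(chevG2.group F) k, Φ.sub = (P : Subgroup ↥(chevG2.group F)) := by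
  classical
  haveI : Fact (Nat.Prime 2) := ⟨Nat.prime_two⟩
  obtain ⟨k, hk, hL, ⟨T⟩⟩ := exists_torus hF
  obtain ⟨e⟩ := G2Inv.nonempty_iso (F := F)
  let Φ₀ := (T.frame hk).map e.symm.toMonoidHom e.symm.injective
  have hp : IsPGroup 2 Φ₀.sub :=
    IsPGroup.of_card (n := 2 * (k + 1)) (by rw [Φ₀.card_sub, pow_mul]; norm_num)
  obtain ⟨Q, hQ⟩ := hp.exists_le_sylow
  have hcard : Nat.card (Q : Subgroup ↥(chevG2.group F)) ≤ Nat.card Φ₀.sub := by
    rw [Q.card_eq_multiplicity, Φ₀.card_sub, show (4 : ℕ) = 2 ^ 2 by norm_num, ← pow_mul,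
      Nat.card_congr e.toEquiv]
    refine Nat.pow_le_pow_right (by norm_num) ((ZornG2.fact_G2_le hF).trans ?_)
    rw [hL]
  have hQe : Φ₀.sub = (Q : Subgroup ↥(chevG2.group F)) := Subgroup.eq_of_le_of_card_ge hQ hcard
  obtain ⟨g, hg⟩ := MulAction.exists_smul_eq ↥(chevG2.group F) Q P
  have hinj : Function.Injective ⇑(MulAut.conj g).toMonoidHom := (MulAut.conj g).injective
  refine ⟨k, Φ₀.map (MulAut.conj g).toMonoidHom hinj, ?_⟩
  rw [← hg, Sylow.coe_subgroup_smul, ← hQe]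
  ext x
  rw [Subgroup.mem_pointwise_smul_iff_inv_smul_mem]
  constructor
  · rintro ⟨v, e', f, rfl⟩
    refine ⟨v, e', f, ?_⟩
    rw [Frame.map_el]
    simp [MulAut.smul_def]
    group
  · rintro ⟨v, e', f, h⟩
    refine ⟨v, e', f, ?_⟩
    rw [Frame.map_el, ← h]
    simp [MulAut.smul_def]
    group

theorem transport {G : Type u} [Group G] {H : Type v} [Group H] {k : ℕ} (Φ : Frame H k)
    (P : Subgroup H) (hP : Φ.sub = P) (S : Subgroup G) (e : ↥S ≃* ↥P) :
    ∃ Ψ : Frame G k, Ψ.sub = S := by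
  subst hP
  let Φ' : Frame ↥Φ.sub k :=
    { two_le := Φ.two_le
      a := fun v => ⟨Φ.a v, v, false, false, (Φ.el_a v).symm⟩
      i := ⟨Φ.i, 0, true, false, Φ.el_i.symm⟩
      s := ⟨Φ.s, 0, false, true, Φ.el_s.symm⟩
      a_add := fun v w => Subtype.ext (Φ.a_add v w)
      inj := fun v h => Φ.inj v (congrArg Subtype.val h)
      i_sq := Subtype.ext Φ.i_sq
      s_sq := Subtype.ext Φ.s_sq
      i_s := Subtype.ext Φ.i_s
      i_a := fun v => Subtype.ext (Φ.i_a v)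
      s_a := fun v => Subtype.ext (Φ.s_a v) }
  have hΦ' : ∀ v e' f, ((Φ'.el v e' f : ↥Φ.sub) : H) = Φ.el v e' f := fun v e' f => by
    cases e' <;> cases f <;> rfl
  let φ : ↥Φ.sub →* G := S.subtype.comp e.symm.toMonoidHom
  have hφ : Function.Injective φ := S.subtype_injective.comp e.symm.injective
  refine ⟨Φ'.map φ hφ, ?_⟩
  ext x
  constructor
  · rintro ⟨v, e', f, rfl⟩
    rw [Frame.map_el]
    exact (e.symm _).2
  · intro hx
    obtain ⟨v, e', f, h⟩ := (e ⟨x, hx⟩).2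
    refine ⟨v, e', f, ?_⟩
    rw [Frame.map_el, show Φ'.el v e' f = e ⟨x, hx⟩ from Subtype.ext ((hΦ' v e' f).trans h.symm)]
    simp [φ]

end Cfsg.Agent.Lib.G2SylowClasses
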