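import Cfsg.Agent.Lib.G2SylowClasses.Frame
import Cfsg.Agent.Lib.G2Inv.Centralizer

/-!
A frame inside the automorphism group of Zorn's algebra, from a torus of `GL₂`.
-/

set_option autoImplicit false

namespace Cfsg.Agent.Lib.G2SylowClasses

open Matrix Cfsg.Lie Cfsg.Agent.Lib.ZornG2

universe u

variable {F : Type u} [Field F] [Fintype F]

/-- scalars -/
def sc (c : Fˣ) : GL (Fin 2) F := diag2 c c

omit [Fintype F] in
theorem sc_val (c : Fˣ) : ((sc c : GL (Fin 2) F) : Matrix (Fin 2) (Fin 2) F) = (c : F) • 1 := by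
  ext i j; fin_cases i <;> fin_cases j <;> simp [sc, diag2]

omit [Fintype F] in
theorem sc_comm (c : Fˣ) (X : GL (Fin 2) F) : sc c * X = X * sc c :=
  Units.ext (by simp [sc_val, Units.val_mul])

omit [Fintype F] in
theorem sc_neg_one : sc (-1 : Fˣ) = (-1 : GL (Fin 2) F) :=
  Units.ext (by simp [sc_val])

/-- torus data -/
structure Torus (F : Type u) [Field F] [Fintype F] (k : ℕ) where
  w : GL (Fin 2) F
  h : GL (Fin 2) F
  j : GL (Fin 2) F
  b : GL (Fin 2) F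
  κ : Fˣ
  c : Fˣ
  d : Fˣ
  w_sq : w * w = 1
  w_det : (w : Matrix (Fin 2) (Fin 2) F).det = -1
  h_j : h * j = j * h
  h_b : h * b = b * h
  j_b : j * b = b * j
  w_j : w * j * w = -j
  j_sq : j * j = sc κ
  b_norm : b * (w * b * w) = sc κ
  j_det : (j : Matrix (Fin 2) (Fin 2) F).det = -(b : Matrix (Fin 2) (Fin 2) F).det
  h_norm : h * (w * h * w) = sc c
  h_pow : h ^ (2 ^ k) = sc d
  h_fix : ∀ n : ℕ, w * h ^ n * w = h ^ n → 2 ^ k ∣ n

namespace Torus

variable {k : ℕ} (T : Torus F k)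

/-- the twisted generator -/
def k' : GL (Fin 2) F := T.w * T.h * T.w

theorem ww (x : GL (Fin 2) F) : T.w * (T.w * x) = x := by rw [← mul_assoc, T.w_sq, one_mul]

theorem w_h : T.w * T.h = T.k' * T.w := by simp [k', mul_assoc, T.w_sq]

theorem w_k : T.w * T.k' = T.h * T.w := by rw [k', ← mul_assoc, ← mul_assoc, T.w_sq, one_mul]

theorem k_eq : T.k' = T.h⁻¹ * sc T.c := by rw [← T.h_norm, inv_mul_cancel_left]; rfl

theorem k_comm {x : GL (Fin 2) F} (hx : T.h * x = x * T.h) : T.k' * x = x * T.k' := by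
  rw [k_eq]
  exact (Commute.mul_left (Commute.inv_left (hx : Commute T.h x)) (sc_comm T.c x : Commute _ x))

theorem k_pow (n : ℕ) : T.k' ^ n = T.w * T.h ^ n * T.w := by
  induction n with
  | zero => simp [T.w_sq]
  | succ n ih =>
    rw [pow_succ, ih, k', pow_succ]
    simp [mul_assoc, T.ww]

theorem wbw : T.w * T.b * T.w = T.b⁻¹ * sc T.κ := by rw [← T.b_norm, inv_mul_cancel_left]

theorem wbw_b : T.w * T.b * T.w * T.b = sc T.κ := by
  rw [T.wbw, mul_assoc, sc_comm, ← mul_assoc, inv_mul_cancel, one_mul]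

theorem w_j' : T.w * T.j = -(T.j * T.w) := by
  have := congrArg (· * T.w) T.w_j
  simpa [mul_assoc, T.w_sq] using this

/-- the inverting matrix -/
def η : GL (Fin 2) F := T.w * (T.b * T.j)

theorem det_mul' (x y : GL (Fin 2) F) : ((x * y : GL (Fin 2) F) : Matrix (Fin 2) (Fin 2) F).det =
    (x : Matrix (Fin 2) (Fin 2) F).det * (y : Matrix (Fin 2) (Fin 2) F).det := by
  rw [Units.val_mul, Matrix.det_mul]

/-- the pair of the first generator -/
def p1 : ↥(pairK F) := ⟨(T.h, T.k'), by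
  rw [mem_pairK]
  show (T.h : Matrix (Fin 2) (Fin 2) F).det = _
  rw [show T.k' = T.w * T.h * T.w from rfl, det_mul', det_mul', T.w_det]
  ring⟩

/-- the pair of the second generator -/
def p2 : ↥(pairK F) := ⟨(T.h, T.h), rfl⟩

/-- the inverting pair -/
def pI : ↥(pairK F) := ⟨(T.η, T.η), rfl⟩

/-- the swapping pair -/
def pS : ↥(pairK F) := ⟨(T.j, T.w * T.b), by
  rw [mem_pairK, det_mul', T.w_det, T.j_det]
  ring⟩

/-- the scalar pair -/
def pc (e : Fˣ) : ↥(pairK F) := ⟨(sc e, sc e), rfl⟩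

theorem pairHom_pc (e : Fˣ) : pairHom F (pc e) = 1 := by
  rw [← MonoidHom.mem_ker, G2Inv.ker_pairHom]
  exact ⟨e, Subtype.ext rfl⟩

theorem pairHom_eq {p q : ↥(pairK F)} (e : Fˣ) (h1 : p.1.1 = sc e * q.1.1)
    (h2 : p.1.2 = sc e * q.1.2) : pairHom F p = pairHom F q := by
  have hp : p = pc e * q := Subtype.ext (Prod.ext h1 h2)
  rw [hp, map_mul, pairHom_pc, one_mul]

theorem pairHom_eq_one {p : ↥(pairK F)} (h : pairHom F p = 1) :
    ∃ e : Fˣ, p.1.1 = sc e ∧ p.1.2 = sc e := by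
  obtain ⟨e, rfl⟩ := eq_of_pairHom_eq_one h
  exact ⟨e, rfl, rfl⟩

/-- the first generator -/
def e1 : ↥(Cfsg.Lie.G2 F) := pairHom F T.p1

/-- the second generator -/
def e2 : ↥(Cfsg.Lie.G2 F) := pairHom F T.p2

/-- the inverting element -/
def gI : ↥(Cfsg.Lie.G2 F) := pairHom F T.pI

/-- the swapping element -/
def gS : ↥(Cfsg.Lie.G2 F) := pairHom F T.pS

theorem e1_pow : T.e1 ^ (2 ^ k) = 1 := by
  rw [e1, ← map_pow, ← pairHom_pc T.d]
  refine congrArg _ (Subtype.ext (Prod.ext ?_ ?_))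
  · exact T.h_pow
  · show T.k' ^ (2 ^ k) = sc T.d
    rw [T.k_pow, T.h_pow, ← sc_comm, mul_assoc, T.w_sq, mul_one]

theorem e2_pow : T.e2 ^ (2 ^ k) = 1 := by
  rw [e2, ← map_pow, ← pairHom_pc T.d]
  exact congrArg _ (Subtype.ext (Prod.ext T.h_pow T.h_pow))

theorem e_comm : Commute T.e1 T.e2 := by
  show pairHom F T.p1 * pairHom F T.p2 = pairHom F T.p2 * pairHom F T.p1
  rw [← map_mul, ← map_mul]
  exact congrArg _ (Subtype.ext (Prod.ext rfl (T.k_comm (rfl : T.h * T.h = T.h * T.h))))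

theorem h_η_h : T.h * T.η * T.h = sc T.c * T.η := by
  have hbj : (T.b * T.j) * T.h = T.h * (T.b * T.j) :=
    (Commute.mul_left (T.h_b.symm : Commute T.b T.h) (T.h_j.symm : Commute T.j T.h))
  calc T.h * T.η * T.h = T.h * (T.w * ((T.b * T.j) * T.h)) := by simp [η, mul_assoc]
    _ = T.h * ((T.w * T.h) * (T.b * T.j)) := by rw [hbj, mul_assoc T.w]
    _ = T.h * T.k' * (T.w * (T.b * T.j)) := by rw [T.w_h]; simp only [mul_assoc]
    _ = sc T.c * T.η := by rw [show T.h * T.k' = sc T.c from T.h_norm]; rfl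

theorem k_η_k : T.k' * T.η * T.k' = sc T.c * T.η := by
  have hbj : (T.b * T.j) * T.k' = T.k' * (T.b * T.j) :=
    (Commute.mul_left ((T.k_comm T.h_b).symm : Commute T.b T.k') ((T.k_comm T.h_j).symm : Commute T.j T.k'))
  calc T.k' * T.η * T.k' = T.k' * (T.w * ((T.b * T.j) * T.k')) := by simp [η, mul_assoc]
    _ = T.k' * ((T.w * T.k') * (T.b * T.j)) := by rw [hbj, mul_assoc T.w]
    _ = T.k' * T.h * (T.w * (T.b * T.j)) := by rw [T.w_k]; simp only [mul_assoc]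
    _ = sc T.c * T.η := by
      rw [T.k_comm (rfl : T.h * T.h = T.h * T.h), show T.h * T.k' = sc T.c from T.h_norm]; rfl

theorem semi_I1 : SemiconjBy T.gI T.e1 T.e1⁻¹ := by
  show pairHom F T.pI * pairHom F T.p1 = (pairHom F T.p1)⁻¹ * pairHom F T.pI
  rw [eq_inv_mul_iff_mul_eq, ← map_mul, ← map_mul]
  exact pairHom_eq T.c ((mul_assoc _ _ _).symm.trans T.h_η_h) ((mul_assoc _ _ _).symm.trans T.k_η_k)

theorem semi_I2 : SemiconjBy T.gI T.e2 T.e2⁻¹ := by
  show pairHom F T.pI * pairHom F T.p2 = (pairHom F T.p2)⁻¹ * pairHom F T.pI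
  rw [eq_inv_mul_iff_mul_eq, ← map_mul, ← map_mul]
  exact pairHom_eq T.c ((mul_assoc _ _ _).symm.trans T.h_η_h) ((mul_assoc _ _ _).symm.trans T.h_η_h)

theorem semi_S1 : SemiconjBy T.gS T.e1 T.e2 := by
  show pairHom F T.pS * pairHom F T.p1 = pairHom F T.p2 * pairHom F T.pS
  rw [← map_mul, ← map_mul]
  refine congrArg _ (Subtype.ext (Prod.ext T.h_j.symm ?_))
  show T.w * T.b * T.k' = T.h * (T.w * T.b)
  rw [mul_assoc, ← T.k_comm T.h_b, ← mul_assoc, T.w_k, mul_assoc]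

theorem semi_S2 : SemiconjBy T.gS T.e2 T.e1 := by
  show pairHom F T.pS * pairHom F T.p2 = pairHom F T.p1 * pairHom F T.pS
  rw [← map_mul, ← map_mul]
  refine congrArg _ (Subtype.ext (Prod.ext T.h_j.symm ?_))
  show T.w * T.b * T.h = T.k' * (T.w * T.b)
  rw [mul_assoc, ← T.h_b, ← mul_assoc, T.w_h, mul_assoc]

theorem η_sq : T.η * T.η = sc (-(T.κ * T.κ)) := by
  have h1 : T.η * T.η = (T.w * T.b * T.w) * (T.w * T.j * T.w) * (T.b * T.j) := by
    simp [η, mul_assoc, T.ww]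
  rw [h1, T.w_j, T.j_b.symm, mul_neg, neg_mul, mul_assoc (T.w * T.b * T.w), ← mul_assoc T.j,
    T.j_sq, sc_comm, ← mul_assoc, T.wbw_b]
  exact Units.ext (by simp [sc_val, Units.val_mul, smul_smul])

theorem gI_sq : T.gI * T.gI = 1 := by
  rw [gI, ← map_mul, ← pairHom_pc (-(T.κ * T.κ))]
  exact congrArg _ (Subtype.ext (Prod.ext T.η_sq T.η_sq))

theorem gS_sq : T.gS * T.gS = 1 := by
  rw [gS, ← map_mul, ← pairHom_pc T.κ]
  refine congrArg _ (Subtype.ext (Prod.ext T.j_sq ?_))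
  show T.w * T.b * (T.w * T.b) = sc T.κ
  rw [← mul_assoc]; exact T.wbw_b

theorem gI_gS : T.gI * T.gS = T.gS * T.gI := by
  rw [gI, gS, ← map_mul, ← map_mul]
  refine pairHom_eq (-1) ?_ ?_
  · show T.η * T.j = sc (-1) * (T.j * T.η)
    rw [sc_neg_one, neg_one_mul, η, mul_assoc, mul_assoc, ← mul_assoc T.j T.w,
      show T.j * T.w = -(T.w * T.j) by rw [T.w_j', neg_neg], neg_mul, neg_neg, mul_assoc T.w T.j,
      ← mul_assoc T.j T.b, T.j_b, mul_assoc]
  · show T.η * (T.w * T.b) = sc (-1) * (T.w * T.b * T.η)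
    rw [sc_neg_one, neg_one_mul]
    have h1 : T.η * (T.w * T.b) = (T.w * T.b * T.w) * (T.w * T.j * T.w) * T.b := by
      simp [η, mul_assoc, T.ww]
    have h2 : T.w * T.b * T.η = (T.w * T.b * T.w) * (T.b * T.j) := by simp [η, mul_assoc]
    rw [h1, h2, T.w_j, mul_neg, neg_mul, mul_assoc, T.j_b]

theorem pow_val_add {x : ↥(Cfsg.Lie.G2 F)} (hx : x ^ (2 ^ k) = 1) (a b : ZMod (2 ^ k)) :
    x ^ (a + b).val = x ^ a.val * x ^ b.val := by
  rw [ZMod.val_add, ← pow_eq_pow_mod _ hx, pow_add]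

/-- the frame -/
def frame (hk : 2 ≤ k) : Frame ↥(Cfsg.Lie.G2 F) k where
  two_le := hk
  a v := T.e1 ^ v.1.val * T.e2 ^ v.2.val
  i := T.gI
  s := T.gS
  a_add v w := by
    rw [Prod.fst_add, Prod.snd_add, pow_val_add T.e1_pow, pow_val_add T.e2_pow, mul_assoc,
      mul_assoc, ← mul_assoc (T.e1 ^ w.1.val), (T.e_comm.pow_pow w.1.val v.2.val).eq]
    simp [mul_assoc]
  inj v h := by
    rw [e1, e2, ← map_pow, ← map_pow, ← map_mul] at h
    obtain ⟨e, h1, h2⟩ := pairHom_eq_one h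
    have h1' : T.h ^ v.1.val * T.h ^ v.2.val = sc e := h1
    have h2' : T.k' ^ v.1.val * T.h ^ v.2.val = sc e := h2
    have h3 : v.1 = 0 := by
      have h4 := mul_right_cancel (h2'.trans h1'.symm)
      rw [T.k_pow] at h4
      have h5 := Nat.eq_zero_of_dvd_of_lt (T.h_fix _ h4) (ZMod.val_lt _)
      exact (ZMod.val_eq_zero _).1 h5
    have h6 : v.2 = 0 := by
      rw [h3, ZMod.val_zero, pow_zero, one_mul] at h1'
      have h4 : T.w * T.h ^ v.2.val * T.w = T.h ^ v.2.val := by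
        rw [h1', ← sc_comm, mul_assoc, T.w_sq, mul_one]
      have h5 := Nat.eq_zero_of_dvd_of_lt (T.h_fix _ h4) (ZMod.val_lt _)
      exact (ZMod.val_eq_zero _).1 h5
    exact Prod.ext h3 h6
  i_sq := T.gI_sq
  s_sq := T.gS_sq
  i_s := T.gI_gS
  i_a v := by
    have hn : ∀ {x : ↥(Cfsg.Lie.G2 F)}, x ^ (2 ^ k) = 1 → ∀ a : ZMod (2 ^ k),
        x ^ (-a).val = x⁻¹ ^ a.val := fun {x} hx a => by
      rw [inv_pow, eq_inv_iff_mul_eq_one, ← pow_val_add hx, neg_add_cancel, ZMod.val_zero, pow_zero]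
    rw [Prod.fst_neg, Prod.snd_neg, hn T.e1_pow, hn T.e2_pow]
    exact ((T.semi_I1.pow_right _).mul_right (T.semi_I2.pow_right _)).eq
  s_a v := by
    rw [Prod.fst_swap, Prod.snd_swap, ← (T.e_comm.symm.pow_pow v.1.val v.2.val).eq]
    exact ((T.semi_S1.pow_right _).mul_right (T.semi_S2.pow_right _)).eq

end Torus

end Cfsg.Agent.Lib.G2SylowClasses
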